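import Groth.Agent.Lib.HomShH7.Basic
import Groth.Agent.Lib.FormalH7.ModSec
import Groth.Agent.Lib.Algz27.Completion27
import Groth.Agent.Lib.ArtinRees.HomLift
import Groth.Agent.Lib.CohFound.HHBridge

/-!
# Morphisms of completions as compatible sections of the module of homomorphisms
-/

universe u

open CategoryTheory Limits AlgebraicGeometry Opposite TopologicalSpace

namespace Groth.Agent.HomShH7

variable {X : Scheme.{u}} {M N N' : X.Modules}

/-- A morphism as a section of the module of homomorphisms. -/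
noncomputable def secOfHom (f : M ⟶ N) (U : X.Opens) : Γ(M2.homMod M N, U) :=
  (⟨fun V => { toFun := fun s => f.app V.1 s
               map_add' := fun s t => map_add _ _ _
               map_smul' := fun r s => Scheme.Modules.Hom.app_smul f r s },
    fun V V' h s => M1.app_mres f h s⟩ : M2.HomSec M N U)

theorem ev_secOfHom (f : M ⟶ N) {U V : X.Opens} (h : V ≤ U) (s : Γ(M, V)) :
    ev (secOfHom f U) h s = f.app V s := rfl

/-- A global section of the module of homomorphisms as a morphism. -/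
noncomputable def homOfSec (φ : Γ(M2.homMod M N, ⊤)) : M ⟶ N :=
  ⟨PresheafOfModules.homMk
    { app := fun U => AddCommGrpCat.ofHom (ev φ (le_top : U.unop ≤ ⊤)).toAddMonoidHom
      naturality := fun {U V} i => by
        ext s
        exact ev_mres φ (le_top : U.unop ≤ ⊤) (leOfHom i.unop) s }
    fun U r s => (ev φ (le_top : U.unop ≤ ⊤)).map_smul r s⟩

theorem homOfSec_app (φ : Γ(M2.homMod M N, ⊤)) (V : X.Opens) (s : Γ(M, V)) :
    (homOfSec φ).app V s = ev φ (le_top : V ≤ ⊤) s := rfl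

/-- Composition of a section with a morphism. -/
noncomputable def postComp {U : X.Opens} (φ : Γ(M2.homMod M N, U)) (f : N ⟶ N') : Γ(M2.homMod M N', U) :=
  (⟨fun V => { toFun := fun s => f.app V.1 (ev φ V.2 s)
               map_add' := fun s t => by rw [map_add, map_add]
               map_smul' := fun r s => (congrArg _ (map_smul _ _ _)).trans (Scheme.Modules.Hom.app_smul f r _) },
    fun V V' h s => (congrArg (f.app V'.1) (ev_mres φ V.2 h s)).trans (M1.app_mres f h _)⟩ : M2.HomSec M N' U)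

theorem ev_postComp {U V : X.Opens} (φ : Γ(M2.homMod M N, U)) (f : N ⟶ N') (h : V ≤ U) (s : Γ(M, V)) :
    ev (postComp φ f) h s = f.app V (ev φ h s) := rfl

section modules

variable {A : Type u} [CommRing A] [X.Over (Spec (CommRingCat.of A))] (I : Ideal A)

/-- The ideal generated by `I` in the functions on an open. -/
noncomputable abbrev idl (U : X.Opens) : Ideal Γ(X, U) := I.map (FormalH7.multHom X U)

/-- The kernel of the projection on sections over an affine open. -/
theorem app_modPowπ_eq_zero_iff {G : X.Modules} (hG : Coh.IsQCoh G) (n : ℕ) {U : X.Opens} (hU : IsAffineOpen U)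
    (m : Γ(G, U)) :
    (Formal.modPowπ I n G).app U m = 0 ↔ m ∈ idl I U ^ n • (⊤ : Submodule Γ(X, U) Γ(G, U)) := by
  letI := FormalH7.secMod (A := A) G U
  letI : Algebra A Γ(X, U) := (FormalH7.multHom X U).toAlgebra
  haveI : IsScalarTower A Γ(X, U) Γ(G, U) := IsScalarTower.of_algebraMap_smul fun _ _ => rfl
  have h2 : ((I ^ n).map (algebraMap A Γ(X, U)) • (⊤ : Submodule Γ(X, U) Γ(G, U))).restrictScalars A =
      I ^ n • (⊤ : Submodule A Γ(G, U)) := by
    rw [Ideal.smul_restrictScalars, Submodule.restrictScalars_top]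
  have hp : idl I U ^ n = (I ^ n).map (algebraMap A Γ(X, U)) := (Ideal.map_pow _ _ _).symm
  have hd : IsIso (cokernel.desc (Formal.smulFamily (I ^ n) G) (Formal.modPowπ I n G) (cokernel.condition _)) := by
    have h : cokernel.desc (Formal.smulFamily (I ^ n) G) (Formal.modPowπ I n G) (cokernel.condition _) = 𝟙 _ :=
      coequalizer.hom_ext ((cokernel.π_desc _ _ _).trans (Category.comp_id _).symm)
    rw [h]
    exact IsIso.id _
  rw [hp]
  refine ⟨fun h => h2.ge (FormalH7.mem_smul_of_app_eq_zero hG _ _ hd hU m h), fun h => ?_⟩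
  exact FormalH7.app_eq_zero_of_mem _ (cokernel.condition _) (h2.le h)

theorem surjective_app_modPowπ [IsLocallyNoetherian X] {G : X.Modules} (hG : Coh.IsCoh G) (n : ℕ) {U : X.Opens}
    (hU : IsAffineOpen U) : Function.Surjective ((Formal.modPowπ I n G).app U) :=
  haveI : Epi (Formal.modPowπ I n G) := FormalH7.epi_modPowπ I n G
  M1.app_surjective_affine_of_isQCoh hG.1 (Algz27C.isCoh_modPow (I := I) n hG).1 _ hU

/-- The projection on sections as a linear map. -/
noncomputable def modPowLin (G : X.Modules) (n : ℕ) (U : X.Opens) :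
    (Γ(G, U) : Type u) →ₗ[Γ(X, U)] (Γ(Formal.modPow I n G, U) : Type u) where
  toFun s := (Formal.modPowπ I n G).app U s
  map_add' := map_add _
  map_smul' r s := Scheme.Modules.Hom.app_smul _ r s

theorem modPowTrans_modPowLE (G : X.Modules) {n m : ℕ} (h : n ≤ m) :
    Formal.modPowTrans I m G ≫ Formal2.modPowLE I h G = Formal2.modPowLE I (h.trans (Nat.le_succ m)) G := by
  rw [← cancel_epi (Formal.modPowπ I (m + 1) G), ← Category.assoc, Formal.modPowπ_trans, Formal2.modPowπ_modPowLE,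
    Formal2.modPowπ_modPowLE]

variable (M N) in
/-- Compatible families of maps to the quotients by powers of the ideal. -/
def IsCompat (Ψ : ∀ n, M ⟶ Formal.modPow I (n + 1) N) : Prop :=
  ∀ n, Ψ (n + 1) ≫ Formal.modPowTrans I (n + 1) N = Ψ n

variable {I} {Ψ : ∀ n, M ⟶ Formal.modPow I (n + 1) N}

theorem IsCompat.comp_le (hΨ : IsCompat M N I Ψ) {n m : ℕ} (h : n ≤ m) :
    Ψ m ≫ Formal2.modPowLE I (Nat.succ_le_succ h) N = Ψ n := by
  induction m, h using Nat.le_induction with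
  | base =>
    have : Formal2.modPowLE I (Nat.succ_le_succ (le_refl n)) N = 𝟙 _ := by
      rw [← cancel_epi (Formal.modPowπ I (n + 1) N), Formal2.modPowπ_modPowLE]
      exact (Category.comp_id _).symm
    rw [this, Category.comp_id]
  | succ m h ih =>
    rw [← ih, ← hΨ m, Category.assoc]
    exact congrArg (_ ≫ ·) (modPowTrans_modPowLE I N (Nat.succ_le_succ h)).symm

variable (Ψ) in
/-- A section inducing the given map at level `n`. -/
def Agree (n : ℕ) {U : X.Opens} (φ : Γ(M2.homMod M N, U)) : Prop :=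
  postComp φ (Formal.modPowπ I (n + 1) N) = secOfHom (Ψ n) U

theorem Agree.res {n : ℕ} {U U' : X.Opens} {φ : Γ(M2.homMod M N, U)} (h : Agree Ψ n φ) (hU : U' ≤ U) :
    Agree Ψ n (M1.mres (M2.homMod M N) hU φ) :=
  congrArg (M1.mres (M2.homMod M (Formal.modPow I (n + 1) N)) hU) h

theorem Agree.mono (hΨ : IsCompat M N I Ψ) {n m : ℕ} (hnm : n ≤ m) {U : X.Opens} {φ : Γ(M2.homMod M N, U)}
    (h : Agree Ψ m φ) : Agree Ψ n φ := by
  refine hom_sec_ext _ _ fun V hV s => ?_
  have e := congrArg (fun χ => (Formal2.modPowLE I (Nat.succ_le_succ hnm) N).app V (ev χ hV s)) h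
  simp only [ev_postComp, ev_secOfHom] at e
  rw [ev_postComp, ev_secOfHom, ← hΨ.comp_le hnm, ← Formal2.modPowπ_modPowLE I (Nat.succ_le_succ hnm) N]
  exact e

variable [IsLocallyNoetherian X] (hM : Coh.IsCoh M) (hN : Coh.IsCoh N)

include hM hN

/-- Evaluation over an affine open. -/
noncomputable def evEquiv {U : X.Opens} (hU : IsAffineOpen U) :
    (Γ(M2.homMod M N, U) : Type u) ≃ₗ[Γ(X, U)] ((Γ(M, U) : Type u) →ₗ[Γ(X, U)] (Γ(N, U) : Type u)) :=
  LinearEquiv.ofBijective
    ({ toFun := fun φ => ev φ le_rfl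
       map_add' := fun _ _ => rfl
       map_smul' := fun r φ => LinearMap.ext fun s => (ev_smul r φ le_rfl s).trans (by rw [M1.ores_id]; rfl) } :
      (Γ(M2.homMod M N, U) : Type u) →ₗ[Γ(X, U)] _)
    ⟨fun φ ψ h => ext_affine hM.1 hU φ ψ fun s => LinearMap.congr_fun h s,
      fun L => (exists_ev_eq hM.1 hN.1 hU L).imp fun φ hφ => LinearMap.ext hφ⟩

theorem eventually_eq {U : X.Opens} (hU : IsAffineOpen U) :
    ∃ c, ∀ (n m : ℕ), n + c ≤ m → ∀ φ φ' : Γ(M2.homMod M N, U), Agree Ψ m φ → Agree Ψ m φ' →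
      (Formal.modPowπ I (n + 1) (M2.homMod M N)).app U φ = (Formal.modPowπ I (n + 1) (M2.homMod M N)).app U φ' := by
  haveI : IsNoetherianRing Γ(X, U) := IsLocallyNoetherian.component_noetherian ⟨U, hU⟩
  haveI := M1.finite_sections hM.1 hM.2 hU
  haveI := M1.finite_sections hN.1 hN.2 hU
  obtain ⟨c, hc⟩ := ARHom.exists_hom_mem (idl I U) (Γ(M, U) : Type u) (Γ(N, U) : Type u)
  refine ⟨c, fun n m hnm φ φ' h h' => ?_⟩
  rw [← sub_eq_zero, ← map_sub, app_modPowπ_eq_zero_iff I (isCoh_homMod hM hN).1 (n + 1) hU]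
  have hL : ∀ x, evEquiv hM hN hU (φ - φ') x ∈ idl I U ^ (m + 1) • (⊤ : Submodule Γ(X, U) Γ(N, U)) := fun x => by
    rw [← app_modPowπ_eq_zero_iff I hN.1 (m + 1) hU]
    show (Formal.modPowπ I (m + 1) N).app U (ev φ le_rfl x - ev φ' le_rfl x) = 0
    rw [map_sub, sub_eq_zero]
    exact congrArg (fun χ => ev χ le_rfl x) (h.trans h'.symm)
  have h1 := Submodule.mem_map_of_mem (f := (evEquiv hM hN hU).symm.toLinearMap) (hc (m + 1) (by omega) _ hL)
  rw [Submodule.map_smul''] at h1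
  have h2 := Submodule.smul_mono (Ideal.pow_le_pow_right (I := idl I U) (show n + 1 ≤ m + 1 - c by omega))
    (le_top (a := Submodule.map ((evEquiv hM hN hU).symm.toLinearMap) ⊤)) h1
  rwa [LinearEquiv.coe_coe, LinearEquiv.symm_apply_apply] at h2

theorem exists_agree (hΨ : IsCompat M N I Ψ) {U : X.Opens} (hU : IsAffineOpen U) (n : ℕ) :
    ∃ φ : Γ(M2.homMod M N, U), Agree Ψ n φ := by
  haveI : IsNoetherianRing Γ(X, U) := IsLocallyNoetherian.component_noetherian ⟨U, hU⟩
  haveI := M1.finite_sections hM.1 hM.2 hU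
  haveI := M1.finite_sections hN.1 hN.2 hU
  obtain ⟨c, hc⟩ := ARHom.exists_hom_lift (idl I U) (Γ(M, U) : Type u) (Γ(N, U) : Type u)
  let p := modPowLin I N (n + c + 1) U
  have hker : LinearMap.ker p = idl I U ^ (n + c + 1) • ⊤ :=
    Submodule.ext fun m => app_modPowπ_eq_zero_iff I hN.1 _ hU m
  let e := (Submodule.quotEquivOfEq _ _ hker).symm ≪≫ₗ p.quotKerEquivOfSurjective (surjective_app_modPowπ I hN _ hU)
  let q : (Γ(M, U) : Type u) →ₗ[Γ(X, U)] (Γ(Formal.modPow I (n + c + 1) N, U) : Type u) :=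
    { toFun := fun s => (Ψ (n + c)).app U s
      map_add' := map_add _
      map_smul' := fun r s => Scheme.Modules.Hom.app_smul _ r s }
  obtain ⟨L, hL⟩ := hc (n + c + 1) 0 (by omega) (e.symm.toLinearMap ∘ₗ q) 1 (by simp)
  refine ⟨(evEquiv hM hN hU).symm L, ext_affine hM.1 hU _ _ fun s => ?_⟩
  obtain ⟨y, hy⟩ := Submodule.Quotient.mk_surjective _ (e.symm (q s))
  have h1 := hL s y hy
  rw [one_smul, show n + c + 1 + 0 - c = n + 1 by omega, ← app_modPowπ_eq_zero_iff I hN.1 _ hU, map_sub,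
    sub_eq_zero] at h1
  rw [ev_postComp, ev_secOfHom, show ev ((evEquiv hM hN hU).symm L) le_rfl = L from
    (evEquiv hM hN hU).apply_symm_apply L, h1]
  have h2 : (Formal.modPowπ I (n + c + 1) N).app U y = (Ψ (n + c)).app U s := by
    have := congrArg e hy
    rw [LinearEquiv.apply_symm_apply] at this
    exact this
  rw [← Formal2.modPowπ_modPowLE I (Nat.succ_le_succ (Nat.le_add_right n c)) N, ← hΨ.comp_le (Nat.le_add_right n c)]
  exact congrArg ((Formal2.modPowLE I (Nat.succ_le_succ (Nat.le_add_right n c)) N).app U) h2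

theorem existsUnique_class (hΨ : IsCompat M N I Ψ) (n : ℕ) :
    ∃! y : Γ(Formal.modPow I (n + 1) (M2.homMod M N), ⊤),
      ∀ (W : X.affineOpens) (m : ℕ), n ≤ m → ∃ φ : Γ(M2.homMod M N, W.1), Agree Ψ m φ ∧
        (Formal.modPowπ I (n + 1) (M2.homMod M N)).app W.1 φ = M1.mres _ (le_top : W.1 ≤ ⊤) y := by
  classical
  let H := M2.homMod M N
  let π := Formal.modPowπ I (n + 1) H
  let Good : ∀ W : X.affineOpens, Γ(Formal.modPow I (n + 1) H, W.1) → Prop := fun W y =>
    ∀ m, n ≤ m → ∃ φ : Γ(H, W.1), Agree Ψ m φ ∧ π.app W.1 φ = y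
  have huniq : ∀ (W : X.affineOpens) (y y' : Γ(Formal.modPow I (n + 1) H, W.1)), Good W y → Good W y' → y = y' := by
    intro W y y' hy hy'
    obtain ⟨c, hc⟩ := eventually_eq (I := I) (Ψ := Ψ) hM hN W.2
    obtain ⟨φ, h, rfl⟩ := hy (n + c) (Nat.le_add_right n c)
    obtain ⟨φ', h', rfl⟩ := hy' (n + c) (Nat.le_add_right n c)
    exact hc n _ le_rfl φ φ' h h'
  have hex : ∀ W : X.affineOpens, ∃ y, Good W y := fun W => by
    obtain ⟨c, hc⟩ := eventually_eq (I := I) (Ψ := Ψ) hM hN W.2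
    obtain ⟨φ₀, h₀⟩ := exists_agree hM hN hΨ W.2 (n + c)
    refine ⟨π.app W.1 φ₀, fun m _ => ?_⟩
    obtain ⟨φ, h⟩ := exists_agree hM hN hΨ W.2 (max m (n + c))
    exact ⟨φ, h.mono hΨ (le_max_left _ _), hc n _ le_rfl φ φ₀ (h.mono hΨ (le_max_right _ _)) h₀⟩
  have hres : ∀ (W W' : X.affineOpens) (h : W'.1 ≤ W.1) y, Good W y → Good W' (M1.mres _ h y) :=
    fun W W' h y hy m hm => by
      obtain ⟨φ, hφ, rfl⟩ := hy m hm
      exact ⟨_, hφ.res h, M1.app_mres π h φ⟩
  choose Y hY using hex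
  obtain ⟨y, hy, hyu⟩ := TopCat.Sheaf.existsUnique_gluing'
    ⟨(Formal.modPow I (n + 1) H).presheaf, (Formal.modPow I (n + 1) H).isSheaf⟩ (fun W : X.affineOpens => W.1) ⊤
    (fun W => homOfLE le_top) (iSup_affineOpens_eq_top X).ge Y fun W W' => by
      change M1.mres _ inf_le_left (Y W) = M1.mres _ inf_le_right (Y W')
      refine M1.section_ext _ _ fun x hx => ?_
      obtain ⟨V, hV, hxV, hle⟩ := exists_isAffineOpen_mem_and_subset (x := x) (U := W.1 ⊓ W'.1) hx
      rw [← M1.germ_mres _ hle hxV, ← M1.germ_mres _ hle hxV, M1.mres_mres, M1.mres_mres]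
      exact congrArg _ (huniq ⟨V, hV⟩ _ _ (hres W ⟨V, hV⟩ _ _ (hY W)) (hres W' ⟨V, hV⟩ _ _ (hY W')))
  refine ⟨y, fun W m hm => ?_, fun y' hy' => hyu y' fun W => huniq W _ _ (hy' W) (hY W)⟩
  obtain ⟨φ, hφ, h⟩ := hY W m hm
  exact ⟨φ, hφ, h.trans (hy W).symm⟩

/-- A morphism of completions comes from a unique morphism, given the comparison for the module of homomorphisms. -/
theorem existsUnique_hom_of_bijective (hbij : Function.Bijective (Formal.toHHlim I (M2.homMod M N) 0))
    (ψ : Formal.completion I M ⟶ Formal.completion I N) :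
    ∃! φ : M ⟶ N, ∀ n : ℕ, Formal.modPowπ I (n + 1) M ≫ ψ.app (op n) = φ ≫ Formal.modPowπ I (n + 1) N := by
  let H := M2.homMod M N
  let Ψ : ∀ n, M ⟶ Formal.modPow I (n + 1) N := fun n => Formal.modPowπ I (n + 1) M ≫ ψ.app (op n)
  have hΨ : IsCompat M N I Ψ := fun n => by
    have h := ψ.naturality (homOfLE (Nat.le_succ n)).op
    rw [Algz27C.completion_map, Algz27C.completion_map] at h
    refine (Category.assoc _ _ _).trans ((congrArg (_ ≫ ·) h.symm).trans ?_)
    exact (Category.assoc _ _ _).symm.trans (congrArg (· ≫ ψ.app (op n)) (Formal.modPowπ_trans I (n + 1) M))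
  choose y hy hyu using fun n => existsUnique_class hM hN hΨ n
  let s : ∀ G : X.Modules, Coh.HH X G 0 ≃+ Γ(G, ⊤) := fun G =>
    (CohFound.hhExt G 0).trans (CohFound.hc0 ((CohFound.abF X).obj G) ⊤)
  have hs : ∀ {G G' : X.Modules} (f : G ⟶ G') (x : Coh.HH X G 0),
      s G' (Sheaf.H.map ((SheafOfModules.toSheaf X.ringCatSheaf).map f) 0 x) = f.app ⊤ (s G x) := fun f x =>
    (congrArg (CohFound.hc0 _ ⊤) (CohFound.hExt_map ((CohFound.abF X).map f) 0 x)).trans
      (CohFound.hc0_mp _ ⊤ _)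
  have hclass : ∀ χ : Γ(H, ⊤), (∀ n, Agree Ψ n χ) → ∀ n, (Formal.modPowπ I (n + 1) H).app ⊤ χ = y n :=
    fun χ hχ n => hyu n _ fun W m _ => ⟨_, (hχ m).res le_top, M1.app_mres _ _ _⟩
  have hz : (fun n => (s (Formal.modPow I (n + 1) H)).symm (y n)) ∈ Formal.HHlim I H 0 := fun n => by
    refine (s _).injective ((hs _ _).trans ?_)
    simp only [AddEquiv.apply_symm_apply]
    refine hyu n _ fun W m hm => ?_
    obtain ⟨φ, hφ, h⟩ := hy (n + 1) W (m + 1) (by omega)
    refine ⟨φ, hφ.mono hΨ (Nat.le_succ m), ?_⟩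
    refine Eq.trans ?_ ((congrArg ((Formal.modPowTrans I (n + 1) H).app W.1) h).trans (M1.app_mres _ _ _))
    rw [← Formal.modPowπ_trans I (n + 1) H]
    rfl
  obtain ⟨x, hx⟩ := hbij.2 ⟨_, hz⟩
  let χ : Γ(H, ⊤) := s H x
  have hχπ : ∀ n, (Formal.modPowπ I (n + 1) H).app ⊤ χ = y n := fun n => by
    refine (hs _ x).symm.trans ?_
    rw [show Sheaf.H.map ((SheafOfModules.toSheaf X.ringCatSheaf).map (Formal.modPowπ I (n + 1) H)) 0 x =
      (s _).symm (y n) from congrArg (fun z => z.1 n) hx, AddEquiv.apply_symm_apply]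
  have hχ : ∀ n, Agree Ψ n χ := fun n => hom_sec_ext _ _ fun V hV t => M1.section_ext _ _ fun z hzV => by
    obtain ⟨W, hW, hzW, hWV⟩ := exists_isAffineOpen_mem_and_subset (x := z) (U := V) hzV
    rw [← M1.germ_mres _ hWV hzW, ← M1.germ_mres _ hWV hzW]
    congr 1
    rw [← ev_mres _ hV hWV, ← ev_mres _ hV hWV, ev_postComp, ev_secOfHom]
    obtain ⟨φ, hφ, h⟩ := hy n ⟨W, hW⟩ n le_rfl
    have h0 : (Formal.modPowπ I (n + 1) H).app W (M1.mres H (le_top : W ≤ ⊤) χ - φ) = 0 := by
      rw [map_sub, M1.app_mres, hχπ, h, sub_self]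
    rw [app_modPowπ_eq_zero_iff I (isCoh_homMod hM hN).1 _ hW] at h0
    have h1 := Submodule.mem_map_of_mem (f := ((LinearMap.applyₗ (M1.mres M hWV t)).comp
      (evEquiv hM hN hW).toLinearMap)) h0
    rw [Submodule.map_smul''] at h1
    have h2 := (app_modPowπ_eq_zero_iff I hN.1 _ hW _).2 (Submodule.smul_mono le_rfl le_top h1)
    rw [← congrArg (fun c => ev c le_rfl (M1.mres M hWV t)) hφ |>.trans (ev_secOfHom _ _ _), ev_postComp]
    exact sub_eq_zero.1 ((map_sub _ _ _).symm.trans h2)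
  refine ⟨homOfSec χ, fun n => Scheme.Modules.hom_ext _ _ fun V => ?_, fun φ' hφ' => ?_⟩
  · ext t
    exact (congrArg (fun c => ev c (le_top : V ≤ ⊤) t) (hχ n)).symm
  · have ha : ∀ n, Agree Ψ n (secOfHom φ' ⊤) := fun n => hom_sec_ext _ _ fun V hV t => by
      show (Formal.modPowπ I (n + 1) N).app V (φ'.app V t) = (Ψ n).app V t
      rw [show Ψ n = φ' ≫ Formal.modPowπ I (n + 1) N from hφ' n]
      rfl
    have he : secOfHom φ' ⊤ = χ := by
      apply (s H).symm.injective
      refine hbij.1 (Subtype.ext (funext fun n => (s _).injective ((hs _ _).trans (Eq.trans ?_ (hs _ _).symm))))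
      rw [AddEquiv.apply_symm_apply, AddEquiv.apply_symm_apply, hclass _ ha, hχπ]
    refine Scheme.Modules.hom_ext _ _ fun V => ?_
    ext t
    exact congrArg (fun c => ev c (le_top : V ≤ ⊤) t) he

end modules

end Groth.Agent.HomShH7
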