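import Groth.Agent.Lib.TensorMod.Dual
import Groth.Agent.Lib.ModM1.QcohCrit
import Groth.Agent.Lib.ModM1.Ann
import Mathlib.Algebra.Module.FinitePresentation

/-!
# The module of homomorphisms between coherent modules
-/

universe u

open CategoryTheory Limits AlgebraicGeometry Opposite TopologicalSpace

namespace Groth.Agent.HomShH7

variable {X : Scheme.{u}} {M N : X.Modules}

/-- A section of the module of homomorphisms, evaluated on an open. -/
noncomputable abbrev ev {U : X.Opens} (φ : Γ(M2.homMod M N, U)) {V : X.Opens} (h : V ≤ U) :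
    (Γ(M, V) : Type u) →ₗ[Γ(X, V)] (Γ(N, V) : Type u) :=
  (M2.homSecOf M N φ).1 ⟨V, h⟩

theorem ev_mres {U : X.Opens} (φ : Γ(M2.homMod M N, U)) {V W : X.Opens} (h : V ≤ U) (h' : W ≤ V) (s : Γ(M, V)) :
    ev φ (h'.trans h) (M1.mres M h' s) = M1.mres N h' (ev φ h s) :=
  (M2.homSecOf M N φ).2 ⟨V, h⟩ ⟨W, h'.trans h⟩ h' s

theorem ev_res {U U' : X.Opens} (φ : Γ(M2.homMod M N, U)) (hU : U' ≤ U) {V : X.Opens} (h : V ≤ U') :
    ev (M1.mres (M2.homMod M N) hU φ) h = ev φ (h.trans hU) := rfl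

theorem ev_zero {U V : X.Opens} (h : V ≤ U) : ev (0 : Γ(M2.homMod M N, U)) h = 0 := rfl

theorem ev_sub {U V : X.Opens} (φ ψ : Γ(M2.homMod M N, U)) (h : V ≤ U) : ev (φ - ψ) h = ev φ h - ev ψ h := rfl

theorem ev_smul {U : X.Opens} (r : Γ(X, U)) (φ : Γ(M2.homMod M N, U)) {V : X.Opens} (h : V ≤ U) (s : Γ(M, V)) :
    ev (r • φ) h s = M1.ores h r • ev φ h s := rfl

theorem hom_sec_ext {U : X.Opens} (φ ψ : Γ(M2.homMod M N, U))
    (h : ∀ (V : X.Opens) (hV : V ≤ U) (s : Γ(M, V)), ev φ hV s = ev ψ hV s) : φ = ψ :=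
  Subtype.ext (funext fun V => LinearMap.ext fun s => h V.1 V.2 s)

/-- On an affine open a homomorphism out of a quasi-coherent module is determined by its value there. -/
theorem ext_affine (hM : Coh.IsQCoh M) {U : X.Opens} (hU : IsAffineOpen U) (φ ψ : Γ(M2.homMod M N, U))
    (h : ∀ s, ev φ le_rfl s = ev ψ le_rfl s) : φ = ψ := by
  haveI := hM
  refine hom_sec_ext _ _ fun V hV s => M1.section_ext _ _ fun x hx => ?_
  obtain ⟨g, hgV, hxg⟩ := hU.exists_basicOpen_le ⟨x, hx⟩ (hV hx)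
  obtain ⟨k, m, hm⟩ := M1.exists_pow_smul_eq_res_affine M hU g (M1.mres M hgV s)
  rw [← M1.germ_mres N hgV hxg, ← M1.germ_mres N hgV hxg]
  congr 1
  rw [← ev_mres φ hV hgV, ← ev_mres ψ hV hgV]
  have hu : IsUnit (M1.ores (X.basicOpen_le g) g) := RingedSpace.isUnit_res_basicOpen X.toRingedSpace g
  refine (hu.pow k).smul_left_cancel.1 ?_
  refine (map_smul _ _ _).symm.trans (Eq.trans ?_ (map_smul _ _ _))
  rw [← hm, ev_mres φ le_rfl (X.basicOpen_le g), ev_mres ψ le_rfl (X.basicOpen_le g), h]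

/-- Evaluation on generators over an affine open. -/
noncomputable def evalLinear (U : X.Opens) {n : ℕ} (m : Fin n → Γ(M, U)) :
    Γ(M2.homMod M N, U) →ₗ[Γ(X, U)] (Fin n → Γ(N, U)) where
  toFun φ i := ev φ le_rfl (m i)
  map_add' _ _ := rfl
  map_smul' r φ := funext fun i => (ev_smul r φ le_rfl (m i)).trans (by rw [M1.ores_id]; rfl)

theorem evalLinear_injective (hM : Coh.IsQCoh M) {U : X.Opens} (hU : IsAffineOpen U) {n : ℕ}
    (m : Fin n → Γ(M, U)) (hm : Submodule.span Γ(X, U) (Set.range m) = ⊤) :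
    Function.Injective (evalLinear (N := N) U m) := fun φ ψ h => ext_affine hM hU φ ψ fun s =>
  LinearMap.congr_fun (LinearMap.ext_on_range hm fun i => congrFun h i) s

/-- Sections of `Hom` over an affine open with prescribed value there. -/
theorem exists_ev_eq (hM : Coh.IsQCoh M) (hN : Coh.IsQCoh N) {U : X.Opens} (hU : IsAffineOpen U)
    (L : (Γ(M, U) : Type u) →ₗ[Γ(X, U)] (Γ(N, U) : Type u)) :
    ∃ φ : Γ(M2.homMod M N, U), ∀ s, ev φ le_rfl s = L s := by
  classical
  haveI := hM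
  haveI := hN
  have hunit : ∀ g : Γ(X, U), IsUnit (M1.ores (X.basicOpen_le g) g) := fun g =>
    RingedSpace.isUnit_res_basicOpen X.toRingedSpace g
  let OK : ∀ {V : X.Opens}, Γ(M, V) → Γ(N, V) → Prop := fun {V} s t =>
    ∀ (g : Γ(X, U)) (hg : X.basicOpen g ≤ V) (k : ℕ) (m : Γ(M, U)),
      M1.mres M (X.basicOpen_le g) m = M1.ores (X.basicOpen_le g) g ^ k • M1.mres M hg s →
      M1.mres N (X.basicOpen_le g) (L m) = M1.ores (X.basicOpen_le g) g ^ k • M1.mres N hg t
  have huniq : ∀ {V : X.Opens}, V ≤ U → ∀ (s : Γ(M, V)) (t t' : Γ(N, V)), OK s t → OK s t' → t = t' := by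
    intro V hV s t t' ht ht'
    refine M1.section_ext _ _ fun x hx => ?_
    obtain ⟨g, hgV, hxg⟩ := hU.exists_basicOpen_le ⟨x, hx⟩ (hV hx)
    obtain ⟨k, m, hm⟩ := M1.exists_pow_smul_eq_res_affine M hU g (M1.mres M hgV s)
    rw [← M1.germ_mres N hgV hxg, ← M1.germ_mres N hgV hxg]
    exact congrArg _ (((hunit g).pow k).smul_left_cancel.1 ((ht g hgV k m hm).symm.trans (ht' g hgV k m hm)))
  have hloc : ∀ {V : X.Opens} (s : Γ(M, V)) (W : X.Opens) (hW : W ≤ V) (g g' : Γ(X, U)) (hg : X.basicOpen g ≤ V)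
      (hg' : X.basicOpen g' ≤ V) (k k' : ℕ) (m m' : Γ(M, U)),
      M1.mres M (X.basicOpen_le g) m = M1.ores (X.basicOpen_le g) g ^ k • M1.mres M hg s →
      M1.mres M (X.basicOpen_le g') m' = M1.ores (X.basicOpen_le g') g' ^ k' • M1.mres M hg' s →
      ∀ (hWg : W ≤ X.basicOpen g) (hWg' : W ≤ X.basicOpen g'),
      M1.ores (hWg.trans (X.basicOpen_le g)) g' ^ k' • M1.mres N (hWg.trans (X.basicOpen_le g)) (L m) =
        M1.ores (hWg.trans (X.basicOpen_le g)) g ^ k • M1.mres N (hWg.trans (X.basicOpen_le g)) (L m') := by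
    intro V s W hW g g' hg hg' k k' m m' hm hm' hWg hWg'
    let b := g * g'
    have hb : X.basicOpen b = X.basicOpen g ⊓ X.basicOpen g' := X.basicOpen_mul g g'
    have hbg : X.basicOpen b ≤ X.basicOpen g := hb.le.trans inf_le_left
    have hbg' : X.basicOpen b ≤ X.basicOpen g' := hb.le.trans inf_le_right
    have h1 := congrArg (M1.mres M hbg) hm
    have h2 := congrArg (M1.mres M hbg') hm'
    rw [M1.mres_smul, map_pow, M1.ores_ores, M1.mres_mres, M1.mres_mres] at h1 h2
    obtain ⟨n, hn⟩ := M1.exists_pow_smul_eq_zero_affine M hU b (g' ^ k' • m - g ^ k • m') (by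
      rw [map_sub, M1.mres_smul, M1.mres_smul, map_pow, map_pow, h1, h2, smul_comm, sub_self])
    have hL := congrArg (fun z => M1.mres N (hWg.trans (X.basicOpen_le g)) (L z)) hn
    simp only [map_smul, map_sub, map_zero, M1.mres_smul, map_pow] at hL
    have hu : IsUnit (M1.ores (hWg.trans (X.basicOpen_le g)) b) := by
      rw [← M1.ores_ores (X.basicOpen_le b) ((le_inf hWg hWg').trans hb.ge)]
      exact (hunit b).map _
    exact sub_eq_zero.1 ((hu.pow n).smul_eq_zero.1 hL)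
  have hex : ∀ {V : X.Opens}, V ≤ U → ∀ s : Γ(M, V), ∃ t, OK s t := by
    intro V hV s
    let ι := {g : Γ(X, U) // X.basicOpen g ≤ V}
    choose k m hm using fun g : ι => M1.exists_pow_smul_eq_res_affine M hU g.1 (M1.mres M g.2 s)
    let τ : ∀ g : ι, Γ(N, X.basicOpen g.1) := fun g =>
      (↑((hunit g.1).pow (k g)).unit⁻¹ : Γ(X, X.basicOpen g.1)) • M1.mres N (X.basicOpen_le g.1) (L (m g))
    have hτ : ∀ g : ι, M1.ores (X.basicOpen_le g.1) g.1 ^ k g • τ g = M1.mres N (X.basicOpen_le g.1) (L (m g)) :=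
      fun g => by simp only [τ, ← mul_smul, IsUnit.mul_val_inv, one_smul]
    have hcov : V ≤ ⨆ g : ι, X.basicOpen g.1 := fun x hx => by
      obtain ⟨g, hgV, hxg⟩ := hU.exists_basicOpen_le ⟨x, hx⟩ (hV hx)
      exact Opens.mem_iSup.2 ⟨⟨g, hgV⟩, hxg⟩
    obtain ⟨t, ht, -⟩ := TopCat.Sheaf.existsUnique_gluing' ⟨N.presheaf, N.isSheaf⟩ (fun g : ι => X.basicOpen g.1) V
      (fun g => homOfLE g.2) hcov τ fun g g' => by
      change M1.mres N inf_le_left (τ g) = M1.mres N inf_le_right (τ g')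
      have hl : X.basicOpen g.1 ⊓ X.basicOpen g'.1 ≤ U := inf_le_left.trans (X.basicOpen_le _)
      have hu : IsUnit (M1.ores hl g.1 ^ k g * M1.ores hl g'.1 ^ k g') := by
        refine (IsUnit.pow _ ?_).mul (IsUnit.pow _ ?_)
        · rw [← M1.ores_ores (X.basicOpen_le g.1) inf_le_left]; exact (hunit _).map _
        · rw [← M1.ores_ores (X.basicOpen_le g'.1) inf_le_right]; exact (hunit _).map _
      refine hu.smul_left_cancel.1 ?_
      have e := congrArg (M1.mres N (inf_le_left : X.basicOpen g.1 ⊓ X.basicOpen g'.1 ≤ X.basicOpen g.1)) (hτ g)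
      have e' := congrArg (M1.mres N (inf_le_right : X.basicOpen g.1 ⊓ X.basicOpen g'.1 ≤ X.basicOpen g'.1)) (hτ g')
      rw [M1.mres_smul, map_pow, M1.ores_ores, M1.mres_mres] at e e'
      rw [mul_smul, smul_comm, e, mul_smul, e']
      exact hloc s _ (inf_le_left.trans g.2) g.1 g'.1 g.2 g'.2 (k g) (k g') (m g) (m g') (hm g) (hm g') inf_le_left inf_le_right
    refine ⟨t, fun g hg k' m' hm' => ?_⟩
    let γ : ι := ⟨g, hg⟩
    have ht' : M1.mres N hg t = τ γ := ht γ
    refine ((hunit g).pow (k γ)).smul_left_cancel.1 ?_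
    rw [ht', smul_comm, hτ γ]
    have h3 := hloc s (X.basicOpen g) hg g g hg hg k' (k γ) m' (m γ) hm' (hm γ) le_rfl le_rfl
    exact h3
  choose T hT using @hex
  refine ⟨⟨fun V => { toFun := fun s => T V.2 s, map_add' := fun s s' => ?_, map_smul' := fun r s => ?_ },
    fun V V' h s => ?_⟩, fun s => ?_⟩
  · refine huniq V.2 _ _ _ (hT V.2 _) fun g hg k m hm => ?_
    obtain ⟨k₁, m₁, h₁⟩ := M1.exists_pow_smul_eq_res_affine M hU g (M1.mres M hg s)
    obtain ⟨k₂, m₂, h₂⟩ := M1.exists_pow_smul_eq_res_affine M hU g (M1.mres M hg s')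
    obtain ⟨n, hn⟩ := M1.exists_pow_smul_eq_zero_affine M hU g
        (g ^ (k₁ + k₂) • m - (g ^ (k + k₂) • m₁ + g ^ (k + k₁) • m₂)) (by
      rw [map_sub, map_add, M1.mres_smul, M1.mres_smul, M1.mres_smul, hm, h₁, h₂, map_add]
      simp only [map_pow, smul_smul, ← pow_add, smul_add]
      rw [show k₁ + k₂ + k = k + k₂ + k₁ by omega, show k + k₁ + k₂ = k + k₂ + k₁ by omega, sub_self])
    have hL := congrArg (fun z => M1.mres N (X.basicOpen_le g) (L z)) hn
    simp only [map_smul, map_sub, map_add, map_zero, M1.mres_smul, map_pow] at hL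
    have hu := hunit g
    refine (hu.pow (k₁ + k₂)).smul_left_cancel.1 ?_
    rw [sub_eq_zero.1 ((hu.pow n).smul_eq_zero.1 hL), hT V.2 s g hg k₁ m₁ h₁, hT V.2 s' g hg k₂ m₂ h₂,
      map_add]
    simp only [smul_smul, ← pow_add, smul_add]
    rw [show k₁ + k₂ + k = k + k₂ + k₁ by omega, show k + k₁ + k₂ = k + k₂ + k₁ by omega]
  · refine huniq V.2 _ _ _ (hT V.2 _) fun g hg k m hm => ?_
    obtain ⟨k₁, m₁, h₁⟩ := M1.exists_pow_smul_eq_res_affine M hU g (M1.mres M hg s)
    obtain ⟨a, ha⟩ : ∃ a : ℕ × Γ(X, U), M1.ores hg r * M1.ores (X.basicOpen_le g) g ^ a.1 =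
        M1.ores (X.basicOpen_le g) a.2 := by
      haveI := hU.isLocalization_basicOpen g
      obtain ⟨⟨a, ⟨_, l, rfl⟩⟩, hl⟩ := IsLocalization.surj (Submonoid.powers g) (M1.ores hg r)
      exact ⟨(l, a), by
        refine Eq.trans ?_ hl
        exact congrArg _ (map_pow _ _ _).symm⟩
    obtain ⟨l, a⟩ := a
    obtain ⟨n, hn⟩ := M1.exists_pow_smul_eq_zero_affine M hU g
        (g ^ (k₁ + l) • m - (g ^ k * a) • m₁) (by
      rw [map_sub, M1.mres_smul, M1.mres_smul, hm, h₁, M1.mres_smul, map_mul, map_pow, map_pow, ← ha]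
      simp only [smul_smul, sub_eq_zero]
      congr 1
      ring)
    have hL := congrArg (fun z => M1.mres N (X.basicOpen_le g) (L z)) hn
    simp only [map_smul, map_sub, map_zero, M1.mres_smul, map_pow, map_mul] at hL
    have hu := hunit g
    refine (hu.pow (k₁ + l)).smul_left_cancel.1 ?_
    rw [sub_eq_zero.1 ((hu.pow n).smul_eq_zero.1 hL), hT V.2 s g hg k₁ m₁ h₁, RingHom.id_apply,
      M1.mres_smul, ← ha]
    simp only [smul_smul]
    congr 1
    ring
  · refine huniq V'.2 _ _ _ (hT V'.2 _) fun g hg k m hm => ?_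
    change M1.mres N (X.basicOpen_le g) (L m) = _ • M1.mres N hg (M1.mres N h (T V.2 s))
    rw [M1.mres_mres]
    exact hT V.2 s g (hg.trans h) k m (hm.trans (congrArg _ (M1.mres_mres M h hg s)))
  · refine huniq le_rfl _ _ _ (hT le_rfl _) fun g hg k m hm => ?_
    obtain ⟨n, hn⟩ := M1.exists_pow_smul_eq_zero_affine M hU g (m - g ^ k • s) (by
      rw [map_sub, M1.mres_smul, map_pow, hm, sub_self])
    have hL := congrArg (fun z => M1.mres N (X.basicOpen_le g) (L z)) hn
    simp only [map_smul, map_sub, map_zero, M1.mres_smul, map_pow] at hL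
    exact sub_eq_zero.1 (((hunit g).pow n).smul_eq_zero.1 hL)

/-- The module of homomorphisms out of a finitely presented module is quasi-coherent. -/
theorem isQCoh_homMod (hM : CohB1.IsFP M) (hN : Coh.IsQCoh N) : Coh.IsQCoh (M2.homMod M N) := by
  classical
  have hMq : Coh.IsQCoh M := M1.isFP_isQCoh hM
  haveI := hMq
  haveI := hN
  refine M1.isQCoh_of_loc_affine _ (fun U hU r t => ?_) (fun U hU r t ht => ?_)
  · haveI := M1.finitePresentation_sections hM hU
    let i := X.basicOpen_le r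
    letI : Module Γ(X, U) Γ(N, X.basicOpen r) := Module.compHom _ (M1.ores i).hom
    let res : Γ(N, U) →ₗ[Γ(X, U)] Γ(N, X.basicOpen r) :=
      { toFun := fun s => M1.mres N i s
        map_add' := fun _ _ => map_add _ _ _
        map_smul' := fun a s => M1.mres_smul N i a s }
    haveI : IsLocalizedModule (Submonoid.powers r) res := by
      haveI : IsLocalization.Away r Γ(X, X.basicOpen r) := hU.isLocalization_basicOpen r
      have hu : IsUnit (M1.ores i r) := RingedSpace.isUnit_res_basicOpen X.toRingedSpace r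
      refine ⟨?_, fun y => ?_, fun {x y} hxy => ?_⟩
      · rintro ⟨_, k, rfl⟩
        rw [Module.End.isUnit_iff]
        have hk : IsUnit (M1.ores i (r ^ k)) := by rw [map_pow]; exact hu.pow k
        refine ⟨fun a b hab => hk.smul_left_cancel.1 hab,
          fun b => ⟨(↑(hk.unit⁻¹) : Γ(X, X.basicOpen r)) • b, ?_⟩⟩
        show M1.ores i (r ^ k) • (↑(hk.unit⁻¹) : Γ(X, X.basicOpen r)) • b = b
        rw [← mul_smul, IsUnit.mul_val_inv, one_smul]
      · obtain ⟨k, y₀, hy⟩ := M1.exists_pow_smul_eq_res_affine N hU r y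
        refine ⟨⟨y₀, ⟨r ^ k, k, rfl⟩⟩, ?_⟩
        show M1.ores i (r ^ k) • y = M1.mres N i y₀
        rw [hy, map_pow]
      · obtain ⟨n, hn⟩ := M1.exists_pow_smul_eq_zero_affine N hU r (x - y) (by
          rw [map_sub]; exact sub_eq_zero.2 hxy)
        rw [smul_sub, sub_eq_zero] at hn
        exact ⟨⟨r ^ n, n, rfl⟩, hn⟩
    let g : Γ(M, U) →ₗ[Γ(X, U)] Γ(N, X.basicOpen r) :=
      { toFun := fun s => ev t le_rfl (M1.mres M i s)
        map_add' := fun a b => by rw [map_add, map_add]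
        map_smul' := fun a s => by rw [M1.mres_smul, map_smul]; rfl }
    obtain ⟨h, ⟨_, k, rfl⟩, hh⟩ :=
      Module.FinitePresentation.exists_lift_of_isLocalizedModule (Submonoid.powers r) res g
    obtain ⟨φ, hφ⟩ := exists_ev_eq hMq hN hU h
    refine ⟨k, φ, hom_sec_ext _ _ fun V hV s => M1.section_ext _ _ fun x hx => ?_⟩
    obtain ⟨b, hbV, hxb⟩ := hU.exists_basicOpen_le ⟨x, hx⟩ ((hV.trans i) hx)
    obtain ⟨l, m, hm⟩ := M1.exists_pow_smul_eq_res_affine M hU b (M1.mres M hbV s)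
    rw [← M1.germ_mres N hbV hxb, ← M1.germ_mres N hbV hxb]
    congr 1
    rw [← ev_mres (U := X.basicOpen r) _ hV hbV, ← ev_mres (U := X.basicOpen r) _ hV hbV]
    have hu : IsUnit (M1.ores (X.basicOpen_le b) b) := RingedSpace.isUnit_res_basicOpen X.toRingedSpace b
    refine (hu.pow l).smul_left_cancel.1 ?_
    refine (map_smul _ _ _).symm.trans (Eq.trans ?_ (map_smul _ _ _))
    rw [← hm]
    have hbr : X.basicOpen b ≤ X.basicOpen r := hbV.trans hV
    have e : M1.mres M (X.basicOpen_le b) m = M1.mres M hbr (M1.mres M i m) := (M1.mres_mres M i hbr m).symm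
    rw [e, ev_mres _ le_rfl hbr, ev_mres _ le_rfl hbr]
    congr 1
    rw [ev_res, ev_mres φ le_rfl i, hφ, ev_smul, M1.ores_id]
    refine (LinearMap.congr_fun hh m).trans ?_
    show M1.ores i (r ^ k) • ev t le_rfl (M1.mres M i m) = _
    rw [map_pow]
  · obtain ⟨n, m, hm⟩ := Submodule.fg_iff_exists_fin_generating_family.1
      (M1.finite_sections hMq (M1.isFP_isFT hM) hU).fg_top
    choose e he using fun j => M1.exists_pow_smul_eq_zero_affine N hU r (ev t le_rfl (m j)) (by
      rw [← ev_mres t le_rfl (X.basicOpen_le r)]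
      have h0 := congrArg (fun z => ev z (le_refl (X.basicOpen r)) (M1.mres M (X.basicOpen_le r) (m j))) ht
      exact h0)
    refine ⟨Finset.univ.sup e, evalLinear_injective hMq hU m hm (funext fun j => ?_)⟩
    obtain ⟨d, hd⟩ := Nat.exists_eq_add_of_le (Finset.le_sup (f := e) (Finset.mem_univ j))
    rw [map_zero, map_smul, hd, add_comm, pow_add, mul_smul, Pi.smul_apply]
    show r ^ d • (r ^ e j • evalLinear U m t) j = 0
    rw [Pi.smul_apply]
    show r ^ d • r ^ e j • ev t le_rfl (m j) = 0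
    rw [he, smul_zero]

/-- The module of homomorphisms between coherent modules is coherent. -/
theorem isCoh_homMod [IsLocallyNoetherian X] (hM : Coh.IsCoh M) (hN : Coh.IsCoh N) :
    Coh.IsCoh (M2.homMod M N) := by
  have hq := isQCoh_homMod (M1.isFP_of_isCoh hM) hN.1
  refine ⟨hq, M1.isFT_of_finite_sections hq fun U hU => ?_⟩
  haveI : IsNoetherianRing Γ(X, U) := IsLocallyNoetherian.component_noetherian ⟨U, hU⟩
  haveI := M1.finite_sections hN.1 hN.2 hU
  obtain ⟨n, m, hm⟩ := Submodule.fg_iff_exists_fin_generating_family.1 (M1.finite_sections hM.1 hM.2 hU).fg_top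
  exact Module.Finite.of_injective _ (evalLinear_injective (N := N) hM.1 hU m hm)

/-- Homomorphisms live on the intersection of the supports. -/
theorem support_homMod_subset (hM : CohB1.IsFT M) (hN : CohB1.IsFT N) :
    CohB1.support (M2.homMod M N) ⊆ CohB1.support M ∩ CohB1.support N := by
  intro x hx
  have key : ∀ (G : X.Modules), CohB1.IsFT G → x ∉ CohB1.support G →
      ∃ V : X.Opens, x ∈ V ∧ ∀ W ≤ V, ∀ s : Γ(G, W), s = 0 := fun G hG hxG =>
    ⟨⟨(CohB1.support G)ᶜ, (M1.isClosed_support hG).isOpen_compl⟩, hxG, fun W hW s =>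
      M1.section_ext _ _ fun y hy => by
        exact ((M1.notMem_support_iff G y).1 (hW hy) _).trans ((M1.notMem_support_iff G y).1 (hW hy) _).symm⟩
  have hzero : ∀ V : X.Opens, x ∈ V → (∀ W ≤ V, ∀ (φ : Γ(M2.homMod M N, W)), φ = 0) → False := by
    intro V hxV hV
    apply hx
    refine ⟨fun a b => ?_⟩
    suffices ∀ a, a = (0 : (M2.homMod M N).presheaf.stalk x) from (this a).trans (this b).symm
    intro a
    obtain ⟨W, hW, φ, rfl⟩ := (M2.homMod M N).presheaf.exists_germ_eq a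
    rw [← M1.germ_mres _ (inf_le_left : W ⊓ V ≤ W) ⟨hW, hxV⟩, hV _ inf_le_right (M1.mres _ inf_le_left φ), map_zero]
  refine ⟨fun hM' => ?_, fun hN' => ?_⟩
  · obtain ⟨V, hxV, hV⟩ := key M hM (fun h => h hM')
    exact hzero V hxV fun W hW φ => hom_sec_ext _ _ fun W' hW' s => by rw [hV W' (hW'.trans hW) s, map_zero, map_zero]
  · obtain ⟨V, hxV, hV⟩ := key N hN (fun h => h hN')
    exact hzero V hxV fun W hW φ => hom_sec_ext _ _ fun W' hW' s =>
      (hV W' (hW'.trans hW) _).trans (hV W' (hW'.trans hW) _).symm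

end Groth.Agent.HomShH7
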