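import Groth.Agent.Lib.HomShH7.FullFaith
import Groth.Agent.Lib.ModM1.LocFree
import Mathlib.LinearAlgebra.FreeModule.Finite.Matrix

/-!
# Homomorphisms of locally free modules
-/

universe u

open CategoryTheory Limits AlgebraicGeometry Opposite TopologicalSpace

namespace Groth.Agent.HomShH7

variable {X : Scheme.{u}}

/-- Sections over an affine open inside an open on which the module is free are free. -/
theorem free_sections {M : X.Modules} {U : X.Opens} {n : ℕ} (hM : Coh.IsQCoh M)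
    (e : M.restrict U.ι ≅ FlatMod.freeMod (U : Scheme.{u}) n) {W : X.Opens} (hW : IsAffineOpen W) (hWU : W ≤ U) :
    Module.Free Γ(X, W) Γ(M, W) ∧ Module.Finite Γ(X, W) Γ(M, W) := by
  haveI := hM
  have h : Set.range hW.fromSpec ⊆ Set.range U.ι := by
    rw [IsAffineOpen.range_fromSpec, Scheme.Opens.range_ι]; exact hWU
  let l := IsOpenImmersion.lift U.ι hW.fromSpec h
  let e' : M.restrict hW.fromSpec ≅ (tilde.functor Γ(X, W)).obj
      (ModuleCat.of Γ(X, W) (ULift.{u} (Fin n) →₀ Γ(X, W))) :=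
    (M1.restrictLiftIso M U.ι hW.fromSpec h).symm ≪≫
    (Scheme.Modules.restrictFunctor l).mapIso (e ≪≫ M1.freeModFrIso _ _) ≪≫
      (M1.frRestrictIso l _).symm ≪≫ (M1.frTildeIso _).symm
  let L := ((tilde.isoTop _ ≪≫ moduleSpecΓFunctor.mapIso e'.symm).toLinearEquiv).trans (M1.affineSecEquiv M hW)
  exact ⟨Module.Free.of_equiv (M := (ULift.{u} (Fin n) →₀ Γ(X, W))) L,
    Module.Finite.equiv (M := (ULift.{u} (Fin n) →₀ Γ(X, W))) L⟩

/-- Homomorphisms between finite locally free modules form a finite locally free module. -/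
theorem isFinLocFree_homMod [IsLocallyNoetherian X] {M N : X.Modules} (hM : FlatMod.IsFinLocFree M)
    (hN : FlatMod.IsFinLocFree N) : FlatMod.IsFinLocFree (M2.homMod M N) := by
  have hMc : Coh.IsCoh M := (M1.isCoh_iff_isFP M).2 (M1.isFP_of_isFinLocFree hM)
  have hNc : Coh.IsCoh N := (M1.isCoh_iff_isFP N).2 (M1.isFP_of_isFinLocFree hN)
  have hH := isCoh_homMod hMc hNc
  refine (M1.isFinLocFree_iff _).2 ⟨M1.isFP_of_isCoh hH, fun x => ?_⟩
  obtain ⟨U, n, hxU, ⟨e⟩⟩ := hM x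
  obtain ⟨U', n', hxU', ⟨e'⟩⟩ := hN x
  obtain ⟨W, hW, hxW, hWU⟩ := exists_isAffineOpen_mem_and_subset (x := x) (U := U ⊓ U') ⟨hxU, hxU'⟩
  obtain ⟨hf, hfin⟩ := free_sections hMc.1 e hW (fun y hy => (hWU hy).1)
  obtain ⟨hf', hfin'⟩ := free_sections hNc.1 e' hW (fun y hy => (hWU hy).2)
  haveI : Module.Free Γ(X, W) Γ(M2.homMod M N, W) := Module.Free.of_equiv (evEquiv hMc hNc hW).symm
  haveI := hH.1
  letI := M1.stalkModule (M2.homMod M N) hxW
  haveI := M1.isLocalizedModule_germ (M2.homMod M N) hW hxW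
  let := TopCat.Presheaf.algebra_section_stalk X.presheaf (⟨x, hxW⟩ : W)
  haveI := hW.isLocalization_stalk ⟨x, hxW⟩
  haveI : IsScalarTower Γ(X, W) (X.presheaf.stalk x) ((M2.homMod M N).presheaf.stalk x) :=
    IsScalarTower.of_algebraMap_smul fun _ _ => rfl
  exact Module.Free.of_basis ((Module.Free.chooseBasis Γ(X, W) Γ(M2.homMod M N, W)).ofIsLocalizedModule
    (X.presheaf.stalk x) (hW.primeIdealOf ⟨x, hxW⟩).asIdeal.primeCompl (M1.germₗ (M2.homMod M N) hxW))

end Groth.Agent.HomShH7
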