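import Groth.Agent.Lib.HomShH7.FullFaith

/-!
# Modules killed by a power of the ideal
-/

universe u

open CategoryTheory Limits AlgebraicGeometry Opposite

namespace Groth.Agent.HomShH7

variable {A : Type u} [CommRing A] {X : Scheme.{u}} [X.Over (Spec (CommRingCat.of A))]

theorem killedBy_homMod {J : Ideal A} {M N : X.Modules} (h : Formal.KilledBy J M ∨ Formal.KilledBy J N) :
    Formal.KilledBy J (M2.homMod M N) := fun a ha => Scheme.Modules.hom_ext _ _ fun U => by
  ext (φ : Γ(M2.homMod M N, U))
  refine hom_sec_ext _ _ fun V hV s => ?_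
  change ev (FormalH7.mult X a U • φ) hV s = 0
  rw [ev_smul, FormalH7.mult, M1.ores_ores]
  rcases h with h | h
  · rw [← map_smul]
    exact (congrArg (ev φ hV) (congrArg (fun f => f.app V s) (h a ha))).trans (map_zero _)
  · exact congrArg (fun f => f.app V (ev φ hV s)) (h a ha)

/-- Cohomology of a module killed by a power of the ideal is its own limit. -/
theorem bijective_toHHlim_of_killed (I : Ideal A) {c : ℕ} {M : X.Modules} (hM : Formal.KilledBy (I ^ c) M) (p : ℕ) :
    Function.Bijective (Formal.toHHlim I M p) := by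
  have hb : ∀ n, c ≤ n → Function.Bijective (Formal.toHHmodPow I M p n) := fun n hn => by
    haveI : IsIso (Formal.modPowπ I (n + 1) M) :=
      FormalH7.isIso_modPowπ (FormalH7.killedBy_mono (Ideal.pow_le_pow_right (by omega)) hM)
    let G := SheafOfModules.toSheaf X.ringCatSheaf
    let π := asIso (Formal.modPowπ I (n + 1) M)
    refine Function.bijective_iff_has_inverse.2 ⟨Sheaf.H.map (G.map π.inv) p, fun x => ?_, fun y => ?_⟩
    · refine (Formal.HHmap_comp π.hom π.inv p x).trans
        ((congrArg (fun φ => Sheaf.H.map (G.map φ) p x) π.hom_inv_id).trans ?_)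
      erw [CategoryTheory.Functor.map_id, Sheaf.H.map_id_apply]
    · refine (Formal.HHmap_comp π.inv π.hom p y).trans
        ((congrArg (fun φ => Sheaf.H.map (G.map φ) p y) π.inv_hom_id).trans ?_)
      erw [CategoryTheory.Functor.map_id, Sheaf.H.map_id_apply]
  refine ⟨fun x y h => (hb c le_rfl).1 (congrArg (fun z => z.1 c) h), fun z => ?_⟩
  obtain ⟨x, hx⟩ := (hb c le_rfl).2 (z.1 c)
  let w := Formal.toHHlim I M p x
  have down : ∀ n k, z.1 (n + k) = w.1 (n + k) → z.1 n = w.1 n := by
    intro n k
    induction k with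
    | zero => exact id
    | succ k ih => exact fun h => ih ((z.2 (n + k)).symm.trans ((congrArg _ h).trans (w.2 (n + k))))
  refine ⟨x, Subtype.ext (funext fun n => ?_)⟩
  obtain ⟨x', hx'⟩ := (hb (n + c) (Nat.le_add_left c n)).2 (z.1 (n + c))
  let w' := Formal.toHHlim I M p x'
  have down' : ∀ k, c ≤ n + c → z.1 (c + k) = w'.1 (c + k) → z.1 c = w'.1 c := by
    intro k _
    induction k with
    | zero => exact id
    | succ k ih => exact fun h => ih ((z.2 (c + k)).symm.trans ((congrArg _ h).trans (w'.2 (c + k))))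
  have e : z.1 (c + n) = w'.1 (c + n) := (Nat.add_comm n c) ▸ hx'.symm
  have hxx : x = x' := (hb c le_rfl).1 (hx.trans (down' n (Nat.le_add_left c n) e))
  subst hxx
  exact (down n c hx'.symm).symm

end Groth.Agent.HomShH7
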